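import Groth.Agent.FinPresOn.Basic
import Groth.Agent.ModSiteFlat.LocalFactor
import Groth.Prelude.Def_AlgSpPerf
import Groth.Prelude.Def_ModSite

/-!
Maps out of direct summands of finite free modules lift locally along epimorphisms.
-/

set_option backward.isDefEq.respectTransparency false
set_option backward.isDefEq.respectTransparency.types false
set_option autoImplicit false

universe u

namespace Groth.Agent.SiteStrict

open CategoryTheory Limits Opposite
open Groth.Agent.PullFlat (Loc)
open Groth.Agent.ModSiteFlat (rmap rmap_comp)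

variable {C : Type u} [SmallCategory C] {J : GrothendieckTopology C} {O : Sheaf J CommRingCat.{u}}

/-- the section over the slice of a section -/
noncomputable def overSections {G : ModSite.Mod O} {W : C} (t : ModSite.sect G W) :
    ((ModSite.restr O W).obj G).sections :=
  PresheafOfModules.sectionsMk (fun X => rmap G X.unop.hom t) fun {X Y} f => by
    refine (rmap_comp G X.unop.hom f.unop.left t).symm.trans ?_
    exact congrArg (fun k => rmap G k t) (Over.w f.unop)

/-- lifting a global map out of the unit over `W` from a lift of its value at `W` -/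
lemma exists_lift_unit {G F : ModSite.Mod O} (p : G ⟶ F) (ψ : ModSite.unit O ⟶ F) {W : C}
    (t : ModSite.sect G W) (ht : p.val.app (op W) t = (F.unitHomEquiv ψ).val (op W)) :
    ∃ a : (ModSite.restr O W).obj (ModSite.unit O) ⟶ (ModSite.restr O W).obj G,
      a ≫ (ModSite.restr O W).map p = (ModSite.restr O W).map ψ := by
  refine ⟨(SheafOfModules.unitHomEquiv ((ModSite.restr O W).obj G)).symm (overSections t),
    (SheafOfModules.unitHomEquiv ((ModSite.restr O W).obj F)).injective (Subtype.ext (funext fun X => ?_))⟩
  rw [SheafOfModules.unitHomEquiv_comp_apply, Equiv.apply_symm_apply]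
  change p.val.app (op X.unop.left) (rmap G X.unop.hom t) = (F.unitHomEquiv ψ).val (op X.unop.left)
  refine (PresheafOfModules.naturality_apply p.val X.unop.hom.op t).trans ?_
  rw [ht]
  exact (F.unitHomEquiv ψ).property X.unop.hom.op

/-- finite families of local conditions -/
lemma loc_forall_finite {U : C} {ι : Type*} [Finite ι] {P : ι → ∀ ⦃W : C⦄, (W ⟶ U) → Prop}
    (h : ∀ i, Loc J U (P i)) : Loc J U fun W g => ∀ i, P i g := by
  classical
  cases nonempty_fintype ι
  choose S hS hP using h
  refine ⟨Finset.univ.inf S, ?_, fun W g hg i => hP i g ((Finset.inf_le (Finset.mem_univ i) : Finset.univ.inf S ≤ S i) g hg)⟩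
  exact Finset.inf_induction (p := fun T => T ∈ J U) (J.top_mem U) (fun a ha b hb => J.intersection_covering ha hb)
    fun i _ => hS i

/-- maps out of finite free modules lift locally along epimorphisms -/
theorem exists_lift_free {G F : ModSite.Mod O} (p : G ⟶ F) [Epi p] {I : Type u} [Finite I]
    (φ : SheafOfModules.free (R := ModSite.ringSh O) I ⟶ F) (V : C) :
    Loc J V fun W _ => ∃ l : (ModSite.restr O W).obj (SheafOfModules.free I) ⟶ (ModSite.restr O W).obj G,
      l ≫ (ModSite.restr O W).map p = (ModSite.restr O W).map φ := by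
  refine (loc_forall_finite (fun i : I => FinPresOn.loc_lift_epi p
    ((F.unitHomEquiv (SheafOfModules.ιFree i ≫ φ)).val (op V)))).mono fun W g hg => ?_
  have h : ∀ i : I, ∃ a : (ModSite.restr O W).obj (ModSite.unit O) ⟶ (ModSite.restr O W).obj G,
      a ≫ (ModSite.restr O W).map p = (ModSite.restr O W).map (SheafOfModules.ιFree i ≫ φ) := fun i => by
    obtain ⟨t, ht⟩ := hg i
    exact exists_lift_unit p _ t (ht.trans ((F.unitHomEquiv (SheafOfModules.ιFree i ≫ φ)).property g.op))
  choose a ha using h
  have : PreservesColimitsOfSize.{u, u} (ModSite.restr O W) :=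
    ModSiteFlat.preservesColimits_pushforward (F := Over.forget W) _
  have hc : IsColimit ((ModSite.restr O W).mapCocone (SheafOfModules.freeCofan (R := ModSite.ringSh O) I)) :=
    isColimitOfPreserves (ModSite.restr O W) (SheafOfModules.isColimitFreeCofan I)
  refine ⟨hc.desc (Cocone.mk _ (Discrete.natTrans fun j => a j.as)), hc.hom_ext fun j => ?_⟩
  refine (hc.fac_assoc _ j _).trans ?_
  exact (ha j.as).trans (Functor.map_comp _ _ _)

/-- maps out of direct summands of finite free modules lift locally along epimorphisms -/
theorem exists_lift_summand {E G F : ModSite.Mod O} (hE : DCoh.IsFinFreeSummandMod (ModSite.ringSh O) E)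
    (p : G ⟶ F) [Epi p] (φ : E ⟶ F) (V : C) :
    Loc J V fun W _ => ∃ l : (ModSite.restr O W).obj E ⟶ (ModSite.restr O W).obj G,
      l ≫ (ModSite.restr O W).map p = (ModSite.restr O W).map φ := by
  obtain ⟨n, i, r, hir⟩ := hE
  refine (exists_lift_free p (r ≫ φ) V).mono ?_
  rintro W g ⟨l, hl⟩
  exact ⟨(ModSite.restr O W).map i ≫ l, by
    rw [Category.assoc, hl, ← Functor.map_comp, reassoc_of% hir]⟩

end Groth.Agent.SiteStrict
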