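import Mathlib.Algebra.Homology.HomotopyCategory.Acyclic
import Mathlib.Algebra.Homology.HomotopyCategory.ShiftSequence
import Mathlib.CategoryTheory.Triangulated.HomologicalFunctor

/-!
Vanishing of the homology of a mapping cone in one degree.
-/

set_option autoImplicit false

universe v u

namespace Groth.Agent.SiteStrict

open CategoryTheory Limits HomologicalComplex Pretriangulated

variable {A : Type u} [Category.{v} A] [Abelian A]

theorem exactAt_mappingCone {K L : CochainComplex A ℤ} (f : K ⟶ L) (n : ℤ)
    (h₀ : Epi (homologyMap f n)) (h₁ : Mono (homologyMap f (n + 1))) :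
    (CochainComplex.mappingCone f).ExactAt n := by
  let F := HomotopyCategory.homologyFunctor A (ComplexShape.up ℤ) 0
  let T := CochainComplex.mappingCone.triangleh f
  have hT : T ∈ distTriang _ := HomotopyCategory.mappingCone_triangleh_distinguished f
  have hm : ∀ m : ℤ, (F.shift m).map T.mor₁ =
      (HomotopyCategory.homologyFunctorFactors A (ComplexShape.up ℤ) m).hom.app K ≫ homologyMap f m ≫ (HomotopyCategory.homologyFunctorFactors A (ComplexShape.up ℤ) m).inv.app L := fun m => by
    refine Eq.symm ((Category.assoc _ _ _).symm.trans ?_)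
    exact (congrArg (· ≫ _) ((HomotopyCategory.homologyFunctorFactors A (ComplexShape.up ℤ) m).hom.naturality f).symm).trans
      ((Category.assoc _ _ _).trans ((congrArg (_ ≫ ·) ((HomotopyCategory.homologyFunctorFactors A (ComplexShape.up ℤ) m).hom_inv_id_app L)).trans (Category.comp_id _)))
  have e₀ : Epi ((F.shift n).map T.mor₁) := by
    rw [hm n]
    exact @epi_comp _ _ _ _ _ _ (@IsIso.epi_of_iso _ _ _ _ _ (Iso.isIso_hom ((HomotopyCategory.homologyFunctorFactors A (ComplexShape.up ℤ) n).app K))) _
      (@epi_comp _ _ _ _ _ _ h₀ _ (@IsIso.epi_of_iso _ _ _ _ _ (Iso.isIso_hom ((HomotopyCategory.homologyFunctorFactors A (ComplexShape.up ℤ) n).app L).symm)))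
  have e₁ : Mono ((F.shift (n + 1)).map T.mor₁) := by
    rw [hm (n + 1)]
    exact @mono_comp _ _ _ _ _ _ (@IsIso.mono_of_iso _ _ _ _ _ (Iso.isIso_hom ((HomotopyCategory.homologyFunctorFactors A (ComplexShape.up ℤ) (n + 1)).app K))) _
      (@mono_comp _ _ _ _ _ _ h₁ _ (@IsIso.mono_of_iso _ _ _ _ _ (Iso.isIso_hom ((HomotopyCategory.homologyFunctorFactors A (ComplexShape.up ℤ) (n + 1)).app L).symm)))
  have hz : IsZero ((F.shift n).obj T.obj₃) :=
    (F.homologySequence_exact₃ T hT n (n + 1) rfl).isZero_of_both_zeros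
      ((F.homologySequence_epi_shift_map_mor₁_iff T hT n).1 e₀)
      ((F.homologySequence_mono_shift_map_mor₁_iff T hT n (n + 1) rfl).1 e₁)
  rw [exactAt_iff_isZero_homology]
  exact hz.of_iso ((HomotopyCategory.homologyFunctorFactors A (ComplexShape.up ℤ) n).app (CochainComplex.mappingCone f)).symm

end Groth.Agent.SiteStrict
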