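import Groth.Agent.SiteStrict.Restrict
import Groth.Agent.SiteStrict.Cone

/-!
Maps out of strictly perfect complexes: local null homotopies into complexes exact in high degrees,
and local lifting along maps of complexes inducing isomorphisms in high degrees.
-/

set_option backward.isDefEq.respectTransparency false
set_option backward.isDefEq.respectTransparency.types false
set_option autoImplicit false
set_option linter.unusedSectionVars false

universe u

namespace Groth.Agent.SiteStrict

open CategoryTheory Limits Opposite HomologicalComplex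
open Groth.Agent.PullFlat (Loc)

variable {C : Type u} [SmallCategory C] {J : GrothendieckTopology C} {O : Sheaf J CommRingCat.{u}}

/-- restriction to slices preserves limits -/
lemma preservesLimits_restr (W : C) : PreservesLimitsOfSize.{0, 0} (ModSite.restr O W) :=
  (ModSite.extZeroAdj O W).rightAdjoint_preservesLimits

instance additive_restr (W : C) : (ModSite.restr O W).Additive :=
  have := preservesLimits_restr (O := O) W
  Functor.additive_of_preserves_binary_products _

/-- null homotopy data for `ρ` over `W` in degrees above `k` -/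
def NullAbove {E T : CochainComplex (ModSite.Mod O) ℤ} (ρ : E ⟶ T) (W : C) (k : ℤ) : Prop :=
  ∃ h : ∀ i : ℤ, (ModSite.restr O W).obj (E.X (i + 1)) ⟶ (ModSite.restr O W).obj (T.X i),
    ∀ i : ℤ, k ≤ i → (ModSite.restr O W).map (ρ.f (i + 1)) =
      (ModSite.restr O W).map (E.d (i + 1) (i + 1 + 1)) ≫ h (i + 1) + h i ≫ (ModSite.restr O W).map (T.d i (i + 1))

lemma NullAbove.restrict {E T : CochainComplex (ModSite.Mod O) ℤ} {ρ : E ⟶ T} {V W : C} (g : W ⟶ V) {k : ℤ}
    (H : NullAbove ρ V k) : NullAbove ρ W k := by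
  obtain ⟨h, hh⟩ := H
  refine ⟨fun i => rr g (h i), fun i hi => ?_⟩
  rw [← rr_map g (ρ.f (i + 1)), hh i hi, rr_add, rr_comp, rr_comp, rr_map, rr_map]

/-- maps into a complex exact in high degrees from a bounded complex of summands of finite free modules are locally
null homotopic -/
theorem loc_nullAbove {E T : CochainComplex (ModSite.Mod O) ℤ} (ρ : E ⟶ T)
    (hE : ∀ i, DCoh.IsFinFreeSummandMod (ModSite.ringSh O) (E.X i)) (a b : ℤ)
    (hEa : ∀ j, j < a → IsZero (E.X j)) (hEb : ∀ j, b < j → IsZero (E.X j))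
    (hT : ∀ j, a ≤ j → T.ExactAt j) (V : C) (m : ℕ) :
    Loc J V fun W _ => NullAbove ρ W (b - m) := by
  induction m with
  | zero =>
    refine Loc.of_forall fun W _ => ⟨fun _ => 0, fun i hi => ?_⟩
    have h0 : IsZero ((ModSite.restr O W).obj (E.X (i + 1))) := Functor.map_isZero _ (hEb _ (by lia))
    exact h0.eq_of_src _ _
  | succ m ih =>
    refine ih.bind fun W g hW => ?_
    obtain ⟨h, hh⟩ := hW
    generalize hk : b - ((m + 1 : ℕ) : ℤ) = k
    have hk' : b - (m : ℤ) = k + 1 := by push_cast at hk; lia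
    rw [hk'] at hh
    have hext : ∀ {W' : C} (g' : W' ⟶ W) (l : (ModSite.restr O W').obj (E.X (k + 1)) ⟶ (ModSite.restr O W').obj (T.X k)),
        l ≫ (ModSite.restr O W').map (T.d k (k + 1)) = rr g' ((ModSite.restr O W).map (ρ.f (k + 1)) -
          (ModSite.restr O W).map (E.d (k + 1) (k + 1 + 1)) ≫ h (k + 1)) →
        NullAbove ρ W' k := fun {W'} g' l hl => by
      refine ⟨fun i => if hi : i = k then eqToHom (by rw [hi]) ≫ l ≫ eqToHom (by rw [hi]) else rr g' (h i), fun i hi => ?_⟩
      rcases hi.lt_or_eq with hlt | rfl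
      · simp only [dif_neg (show i ≠ k by lia), dif_neg (show i + 1 ≠ k by lia)]
        rw [← rr_map g' (ρ.f (i + 1)), hh i (by lia), rr_add, rr_comp, rr_comp, rr_map, rr_map]
      · simp only [dif_neg (show k + 1 ≠ k by lia), dif_pos, eqToHom_refl, Category.id_comp, Category.comp_id]
        rw [hl, ← rr_map g' (E.d (k + 1) (k + 1 + 1)), ← rr_comp, ← rr_add, add_sub_cancel, rr_map]
    by_cases hka : k + 1 < a
    · refine Loc.of_forall fun W' g' => hext g' 0 ((Functor.map_isZero _ (hEa _ hka)).eq_of_src _ _)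
    have hψ : ((ModSite.restr O W).map (ρ.f (k + 1)) -
        (ModSite.restr O W).map (E.d (k + 1) (k + 1 + 1)) ≫ h (k + 1)) ≫
          (ModSite.restr O W).map (T.d (k + 1) (k + 1 + 1)) = 0 := by
      have h2 : h (k + 1) ≫ (ModSite.restr O W).map (T.d (k + 1) (k + 1 + 1)) = (ModSite.restr O W).map (ρ.f (k + 1 + 1)) -
          (ModSite.restr O W).map (E.d (k + 1 + 1) (k + 1 + 1 + 1)) ≫ h (k + 1 + 1) :=
        eq_sub_of_add_eq' (hh (k + 1) le_rfl).symm
      rw [Preadditive.sub_comp, Category.assoc, h2, Preadditive.comp_sub, ← Functor.map_comp, ρ.comm,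
        ← Functor.map_comp, ← Functor.map_comp_assoc, E.d_comp_d, Functor.map_zero, zero_comp, sub_zero, sub_self]
    have := preservesLimits_restr (O := O) W
    let hlim := KernelFork.mapIsLimit _ (T.cyclesIsKernel (k + 1) (k + 1 + 1) (by simp)) (ModSite.restr O W)
    obtain ⟨ψ', hψ'⟩ := KernelFork.IsLimit.lift' hlim _ hψ
    have : Epi (T.toCycles k (k + 1)) := Preadditive.epi_of_isZero_cokernel' _
      (T.homologyIsCokernel k (k + 1) (by simp)) ((exactAt_iff_isZero_homology _ _).1 (hT _ (by lia)))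
    refine (exists_lift_summand' (hE (k + 1)) (T.toCycles k (k + 1)) ψ').mono ?_
    rintro W' g' ⟨l, hl⟩
    refine hext g' l ?_
    rw [← hψ']
    change _ = rr g' (ψ' ≫ (ModSite.restr O W).map (T.iCycles (k + 1)))
    rw [rr_comp, ← hl, rr_map, Category.assoc, ← Functor.map_comp, toCycles_i]

/-- local lifting along a map inducing isomorphisms in high degrees -/
theorem exists_lift_complex {E F G : CochainComplex (ModSite.Mod O) ℤ} (α : E ⟶ F) (f : G ⟶ F)
    (hE : DCoh.IsStrictlyPerfectMod (ModSite.ringSh O) E) (a : ℤ) (hEa : ∀ j : ℤ, j < a → IsZero (E.X j))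
    (hiso : ∀ j : ℤ, a < j → IsIso (homologyMap f j)) (hepi : Epi (homologyMap f a)) (V : C) :
    Loc J V fun W _ => ∃ β : ((ModSite.restr O W).mapHomologicalComplex (ComplexShape.up ℤ)).obj E ⟶
        ((ModSite.restr O W).mapHomologicalComplex (ComplexShape.up ℤ)).obj G,
      Nonempty (Homotopy (β ≫ ((ModSite.restr O W).mapHomologicalComplex (ComplexShape.up ℤ)).map f)
        (((ModSite.restr O W).mapHomologicalComplex (ComplexShape.up ℤ)).map α)) := by
  obtain ⟨⟨a', b, hb⟩, hterm⟩ := hE
  have hT : ∀ j, a ≤ j → (CochainComplex.mappingCone f).ExactAt j := fun j hj => by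
    have h1 := hiso (j + 1) (by lia)
    have h0 : Epi (homologyMap f j) := by
      rcases hj.lt_or_eq with h | rfl
      · have := hiso j h
        infer_instance
      · exact hepi
    exact exactAt_mappingCone f j h0 inferInstance
  obtain ⟨m, hm⟩ : ∃ m : ℕ, b - (m : ℤ) ≤ a - 2 := ⟨(b - a + 2).toNat, by lia⟩
  refine (loc_nullAbove (α ≫ CochainComplex.mappingCone.inr f) hterm a b hEa (fun j hj => hb j (Or.inr hj)) hT V m).mono ?_
  rintro W g ⟨h, hh⟩
  let R := ModSite.restr O W
  have h0 : ∀ j : ℤ, j < a → ∀ {Z : ModSite.Mod (O.over W)} (x y : R.obj (E.X j) ⟶ Z), x = y :=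
    fun j hj Z x y => (Functor.map_isZero R (hEa j hj)).eq_of_src x y
  have key : ∀ i : ℤ, R.map ((α ≫ CochainComplex.mappingCone.inr f).f (i + 1)) =
      R.map (E.d (i + 1) (i + 1 + 1)) ≫ h (i + 1) + h i ≫ R.map ((CochainComplex.mappingCone f).d i (i + 1)) := fun i => by
    by_cases hi : b - (m : ℤ) ≤ i
    · exact hh i hi
    · exact h0 (i + 1) (by lia) _ _
  let β : ∀ i : ℤ, R.obj (E.X (i + 1)) ⟶ R.obj (G.X (i + 1)) := fun i =>
    h i ≫ R.map ((CochainComplex.mappingCone.fst f).1.v i (i + 1) rfl)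
  let η : ∀ i : ℤ, R.obj (E.X (i + 1)) ⟶ R.obj (F.X i) := fun i =>
    h i ≫ R.map ((CochainComplex.mappingCone.snd f).v i i (add_zero i))
  have hβ : ∀ i : ℤ, R.map (E.d (i + 1) (i + 1 + 1)) ≫ β (i + 1) = β i ≫ R.map (G.d (i + 1) (i + 1 + 1)) := fun i => by
    have := congrArg (fun t => t ≫ R.map ((CochainComplex.mappingCone.fst f).1.v (i + 1) (i + 1 + 1) rfl)) (key i)
    simp only [Preadditive.add_comp, Category.assoc, ← Functor.map_comp, HomologicalComplex.comp_f,
      CochainComplex.mappingCone.inr_f_fst_v, comp_zero, Functor.map_zero,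
      CochainComplex.mappingCone.d_fst_v f i (i + 1) (i + 1 + 1) rfl rfl] at this
    rw [Functor.map_neg, Preadditive.comp_neg, ← sub_eq_add_neg, eq_comm, sub_eq_zero] at this
    simpa only [β, Category.assoc, ← Functor.map_comp] using this
  have hη : ∀ i : ℤ, R.map (α.f (i + 1)) = R.map (E.d (i + 1) (i + 1 + 1)) ≫ η (i + 1) + β i ≫ R.map (f.f (i + 1)) +
      η i ≫ R.map (F.d i (i + 1)) := fun i => by
    have := congrArg (fun t => t ≫ R.map ((CochainComplex.mappingCone.snd f).v (i + 1) (i + 1) (add_zero _))) (key i)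
    simp only [Preadditive.add_comp, Category.assoc, ← Functor.map_comp, HomologicalComplex.comp_f,
      CochainComplex.mappingCone.inr_f_snd_v, Category.comp_id,
      CochainComplex.mappingCone.d_snd_v f i (i + 1) rfl] at this
    rw [this, Functor.map_add, Preadditive.comp_add]
    simp only [β, η, Category.assoc, Functor.map_comp, add_assoc]
  let β' : ∀ n : ℤ, R.obj (E.X n) ⟶ R.obj (G.X n) := fun n =>
    eqToHom (by rw [sub_add_cancel]) ≫ β (n - 1) ≫ eqToHom (by rw [sub_add_cancel])
  have hβ' : ∀ i, β' (i + 1) = β i := fun i => by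
    have : ∀ j (e : j = i) (p : R.obj (E.X (i + 1)) = R.obj (E.X (j + 1))) (q : R.obj (G.X (j + 1)) = R.obj (G.X (i + 1))),
        eqToHom p ≫ β j ≫ eqToHom q = β i := by
      rintro j rfl p q
      simp
    exact this _ (by lia) _ _
  let η' : ∀ n n' : ℤ, R.obj (E.X n) ⟶ R.obj (F.X n') := fun n n' =>
    if hn : n' + 1 = n then eqToHom (by rw [hn]) ≫ η n' else 0
  let βc : (R.mapHomologicalComplex (ComplexShape.up ℤ)).obj E ⟶ (R.mapHomologicalComplex (ComplexShape.up ℤ)).obj G :=
    { f := β'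
      comm' := fun n n' hn => by
        obtain rfl : n + 1 = n' := hn
        obtain ⟨i, rfl⟩ : ∃ i, i + 1 = n := ⟨n - 1, by lia⟩
        change β' (i + 1) ≫ R.map (G.d (i + 1) (i + 1 + 1)) = R.map (E.d (i + 1) (i + 1 + 1)) ≫ β' (i + 1 + 1)
        rw [hβ', hβ', hβ] }
  refine ⟨βc, ⟨{ hom := fun n n' => -η' n n', zero := fun n n' hn => ?_, comm := fun n => ?_ }⟩⟩
  · simp only [η']; rw [dif_neg (show ¬ n' + 1 = n from hn), neg_zero]
  · obtain ⟨i, rfl⟩ : ∃ i, i + 1 = n := ⟨n - 1, by lia⟩
    rw [dNext_eq _ (show (ComplexShape.up ℤ).Rel (i + 1) (i + 1 + 1) from rfl),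
      prevD_eq _ (show (ComplexShape.up ℤ).Rel i (i + 1) from rfl)]
    simp only [η', dif_pos, eqToHom_refl, Category.id_comp]
    change β' (i + 1) ≫ R.map (f.f (i + 1)) = R.map (E.d (i + 1) (i + 1 + 1)) ≫ (-η (i + 1)) +
      (-η i) ≫ R.map (F.d i (i + 1)) + R.map (α.f (i + 1))
    rw [hβ', hη, Preadditive.comp_neg, Preadditive.neg_comp]
    abel

end Groth.Agent.SiteStrict
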