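import Groth.Agent.SiteStrict.Homotopy
import Mathlib.Algebra.Homology.DerivedCategory.ExactFunctor
import Mathlib.Algebra.Homology.DerivedCategory.Fractions

/-!
Maps in the derived category out of strictly perfect complexes are locally maps of complexes.
-/

set_option backward.isDefEq.respectTransparency false
set_option backward.isDefEq.respectTransparency.types false
set_option autoImplicit false

universe u

namespace Groth.Agent.SiteStrict

open CategoryTheory Limits Opposite HomologicalComplex
open Groth.Agent.PullFlat (Loc)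

variable {C : Type u} [SmallCategory C] {J : GrothendieckTopology C} {O : Sheaf J CommRingCat.{u}}

theorem exists_map_derived [HasDerivedCategory.{u} (ModSite.Mod O)]
    [∀ W : C, HasDerivedCategory.{u} (ModSite.Mod (O.over W))]
    [∀ W : C, PreservesFiniteColimits (ModSite.restr O W)] (E F : CochainComplex (ModSite.Mod O) ℤ)
    (hE : DCoh.IsStrictlyPerfectMod (ModSite.ringSh O) E)
    (α : DerivedCategory.Q.obj E ⟶ DerivedCategory.Q.obj F) (V : C) :
    Loc J V fun W _ => ∃ α' : ((ModSite.restr O W).mapHomologicalComplex (ComplexShape.up ℤ)).obj E ⟶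
        ((ModSite.restr O W).mapHomologicalComplex (ComplexShape.up ℤ)).obj F,
      (ModSite.restr O W).mapDerivedCategory.map α = (ModSite.restr O W).mapDerivedCategoryFactors.hom.app E ≫
        DerivedCategory.Q.map α' ≫ (ModSite.restr O W).mapDerivedCategoryFactors.inv.app F := by
  obtain ⟨Y', a, s, hs, rfl⟩ := DerivedCategory.left_fac α
  have hq : QuasiIso s := (DerivedCategory.isIso_Q_map_iff_quasiIso _ s).1 hs
  obtain ⟨⟨a', b, hb⟩, hterm⟩ := hE
  refine (exists_lift_complex a s ⟨⟨a', b, hb⟩, hterm⟩ a' (fun j hj => hb j (Or.inl hj))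
    (fun j _ => (quasiIsoAt_iff_isIso_homologyMap s j).1 (hq.quasiIsoAt j))
    (@IsIso.epi_of_iso _ _ _ _ _ ((quasiIsoAt_iff_isIso_homologyMap s a').1 (hq.quasiIsoAt a'))) V).mono ?_
  rintro W g ⟨β, ⟨H⟩⟩
  refine ⟨β, ?_⟩
  have h1 : (ModSite.restr O W).mapDerivedCategory.map (DerivedCategory.Q.map s) ≫ (ModSite.restr O W).mapDerivedCategoryFactors.hom.app Y' =
      (ModSite.restr O W).mapDerivedCategoryFactors.hom.app F ≫ DerivedCategory.Q.map (((ModSite.restr O W).mapHomologicalComplex _).map s) :=
    (ModSite.restr O W).mapDerivedCategoryFactors_hom_naturality s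
  rw [Functor.map_comp, Functor.map_inv, IsIso.comp_inv_eq, ← cancel_mono ((ModSite.restr O W).mapDerivedCategoryFactors.hom.app Y'),
    (ModSite.restr O W).mapDerivedCategoryFactors_hom_naturality, Category.assoc, h1]
  simp only [Category.assoc, Iso.inv_hom_id_app_assoc]
  rw [← DerivedCategory.Q_map_eq_of_homotopy _ H, Functor.map_comp]

end Groth.Agent.SiteStrict
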