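import Groth.Agent.SiteStrict.Lift
import Groth.Agent.ModPerm.Basic

/-!
Morphisms between restricted modules: further restriction and local lifting.
-/

set_option backward.isDefEq.respectTransparency false
set_option backward.isDefEq.respectTransparency.types false
set_option autoImplicit false
set_option linter.unusedSectionVars false

universe u

namespace Groth.Agent.SiteStrict

open CategoryTheory Limits Opposite
open Groth.Agent.PullFlat (Loc)
open Groth.Agent.ModSiteFlat (rmap rmap_comp)

variable {C : Type u} [SmallCategory C] {J : GrothendieckTopology C} {O : Sheaf J CommRingCat.{u}}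

/-- further restriction of a map between restrictions -/
noncomputable def rr {V W : C} (g : W ⟶ V) {X Y : ModSite.Mod O}
    (a : (ModSite.restr O V).obj X ⟶ (ModSite.restr O V).obj Y) :
    (ModSite.restr O W).obj X ⟶ (ModSite.restr O W).obj Y :=
  (ModPerm.omRestr O g X).inv ≫ (ModPerm.om O g).map a ≫ (ModPerm.omRestr O g Y).hom

variable {V W : C} (g : W ⟶ V) {X Y Z : ModSite.Mod O}

lemma rr_map (f : X ⟶ Y) : rr g ((ModSite.restr O V).map f) = (ModSite.restr O W).map f := by
  rw [rr, Iso.inv_comp_eq]
  apply SheafOfModules.hom_ext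
  apply PresheafOfModules.hom_ext
  intro T
  rfl

lemma rr_comp (a : (ModSite.restr O V).obj X ⟶ (ModSite.restr O V).obj Y)
    (b : (ModSite.restr O V).obj Y ⟶ (ModSite.restr O V).obj Z) : rr g (a ≫ b) = rr g a ≫ rr g b := by
  simp [rr]

lemma rr_add (a b : (ModSite.restr O V).obj X ⟶ (ModSite.restr O V).obj Y) :
    rr g (a + b) = rr g a + rr g b := by
  apply SheafOfModules.hom_ext
  apply PresheafOfModules.hom_ext
  intro T
  rfl

lemma rr_zero : rr g (0 : (ModSite.restr O V).obj X ⟶ (ModSite.restr O V).obj Y) = 0 := by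
  apply SheafOfModules.hom_ext
  apply PresheafOfModules.hom_ext
  intro T
  rfl

lemma rr_id_add_eq {a b c : (ModSite.restr O V).obj X ⟶ (ModSite.restr O V).obj Y} (h : a + b = c) :
    rr g a + rr g b = rr g c := by
  rw [← rr_add, h]

/-- lifting a map out of a restricted finite free module locally along an epimorphism -/
theorem exists_lift_free' {G F : ModSite.Mod O} (p : G ⟶ F) [Epi p] {I : Type u} [Finite I] {V : C}
    (φ : (ModSite.restr O V).obj (SheafOfModules.free (R := ModSite.ringSh O) I) ⟶ (ModSite.restr O V).obj F) :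
    Loc J V fun W g => ∃ l : (ModSite.restr O W).obj (SheafOfModules.free I) ⟶ (ModSite.restr O W).obj G,
      l ≫ (ModSite.restr O W).map p = rr g φ := by
  let ψ : I → ((ModSite.unit (O.over V)) ⟶ (ModSite.restr O V).obj F) := fun i =>
    (ModSite.restr O V).map (SheafOfModules.ιFree i) ≫ φ
  refine (loc_forall_finite (fun i : I => FinPresOn.loc_lift_epi p (U := V)
    ((((ModSite.restr O V).obj F).unitHomEquiv (ψ i)).val (op (Over.mk (𝟙 V)))))).mono fun W g hg => ?_
  have h : ∀ i : I, ∃ a : (ModSite.restr O W).obj (ModSite.unit O) ⟶ (ModSite.restr O W).obj G,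
      a ≫ (ModSite.restr O W).map p = rr g ((ModSite.restr O V).map (SheafOfModules.ιFree i) ≫ φ) := fun i => by
    obtain ⟨t, ht⟩ := hg i
    refine ⟨(SheafOfModules.unitHomEquiv ((ModSite.restr O W).obj G)).symm (overSections t),
      (SheafOfModules.unitHomEquiv ((ModSite.restr O W).obj F)).injective (Subtype.ext (funext fun T => ?_))⟩
    rw [SheafOfModules.unitHomEquiv_comp_apply, Equiv.apply_symm_apply]
    change p.val.app (op T.unop.left) (rmap G T.unop.hom t) =
      (((ModSite.restr O V).obj F).unitHomEquiv (ψ i)).val (op ((Over.map g).obj T.unop))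
    refine (PresheafOfModules.naturality_apply p.val T.unop.hom.op t).trans ?_
    rw [ht]
    refine (rmap_comp F g T.unop.hom _).symm.trans ?_
    exact (((ModSite.restr O V).obj F).unitHomEquiv (ψ i)).property
      (Over.homMk (T.unop.hom ≫ g) : (Over.map g).obj T.unop ⟶ Over.mk (𝟙 V)).op
  choose a ha using h
  have : PreservesColimitsOfSize.{u, u} (ModSite.restr O W) :=
    ModSiteFlat.preservesColimits_pushforward (F := Over.forget W) _
  have hc : IsColimit ((ModSite.restr O W).mapCocone (SheafOfModules.freeCofan (R := ModSite.ringSh O) I)) :=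
    isColimitOfPreserves (ModSite.restr O W) (SheafOfModules.isColimitFreeCofan I)
  refine ⟨hc.desc (Cocone.mk _ (Discrete.natTrans fun j => a j.as)), hc.hom_ext fun j => ?_⟩
  refine (hc.fac_assoc _ j _).trans ?_
  refine (ha j.as).trans ?_
  rw [rr_comp, rr_map]
  rfl

/-- lifting a map out of a restricted direct summand of a finite free module locally along an epimorphism -/
theorem exists_lift_summand' {E G F : ModSite.Mod O} (hE : DCoh.IsFinFreeSummandMod (ModSite.ringSh O) E)
    (p : G ⟶ F) [Epi p] {V : C} (φ : (ModSite.restr O V).obj E ⟶ (ModSite.restr O V).obj F) :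
    Loc J V fun W g => ∃ l : (ModSite.restr O W).obj E ⟶ (ModSite.restr O W).obj G,
      l ≫ (ModSite.restr O W).map p = rr g φ := by
  obtain ⟨n, i, r, hir⟩ := hE
  refine (exists_lift_free' p ((ModSite.restr O V).map r ≫ φ)).mono ?_
  rintro W g ⟨l, hl⟩
  exact ⟨(ModSite.restr O W).map i ≫ l, by
    rw [Category.assoc, hl, rr_comp, rr_map, ← Functor.map_comp_assoc, hir, CategoryTheory.Functor.map_id,
      Category.id_comp]⟩

end Groth.Agent.SiteStrict
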